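import Groth.Agent.VdimTwo.Conn
import Groth.Agent.Hensel.Ops
import Groth.Agent.CplLim.Basic
import Groth.Agent.Purity.CompFF
import Groth.Prelude.Def_FEt

/-!
# Clopen subsets over the punctured spectrum in virtual dimension two
-/

set_option autoImplicit false
set_option backward.isDefEq.respectTransparency false
set_option linter.style.haveILetI false
set_option maxHeartbeats 800000

universe u

open TensorProduct CategoryTheory CategoryTheory.Limits AlgebraicGeometry TopologicalSpace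

namespace Groth.Agent.VdimTwo

variable (A : Type u) [CommRing A] [IsNoetherianRing A] [IsLocalRing A]
  (S : Type u) [CommRing S] [IsRegularLocalRing S] [IsAdicComplete (IsLocalRing.maximalIdeal S) S]
  (d : ℕ) (hd : ringKrullDim S = d) (s : Finset S) (hs : s.card + 2 ≤ d)
  (e : AdicCompletion (IsLocalRing.maximalIdeal A) A ≃+* S ⧸ Ideal.span (s : Set S))

include hd hs e in
/-- Below each maximal ideal of a finite étale algebra the punctured part is connected. -/
theorem isConnected_below_of_vdim (B : Type u) [CommRing B] [Algebra A B] [Module.Finite A B]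
    [Algebra.Etale A B] (n : Ideal B) [n.IsMaximal] : _root_.IsConnected (below n) := by
  classical
  let I : Ideal S := Ideal.span (s : Set S)
  letI : Algebra A (S ⧸ I) :=
    (e.toRingHom.comp (algebraMap A (AdicCompletion (IsLocalRing.maximalIdeal A) A))).toAlgebra
  let eA : AdicCompletion (IsLocalRing.maximalIdeal A) A ≃ₐ[A] S ⧸ I := AlgEquiv.ofRingEquiv (f := e) fun a => rfl
  haveI : Module.FaithfullyFlat A (AdicCompletion (IsLocalRing.maximalIdeal A) A) :=
    CplLim.faithfullyFlat_completion A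
  haveI : Module.FaithfullyFlat A (S ⧸ I) := Module.FaithfullyFlat.of_linearEquiv _ _ eA.symm.toLinearEquiv
  haveI : Nontrivial (S ⧸ I) := (Equiv.nontrivial e.symm.toEquiv)
  have hItop : I ≠ ⊤ := Ideal.Quotient.nontrivial_iff.1 inferInstance
  have hIm : I ≤ IsLocalRing.maximalIdeal S := IsLocalRing.le_maximalIdeal hItop
  haveI : HenselianRing S I := Groth.Agent.Hensel.henselianRing_mono (J := IsLocalRing.maximalIdeal S) hIm
  obtain ⟨T, _, _, _, _, ⟨eT⟩⟩ := S0532.result S I ((S ⧸ I) ⊗[A] B)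
  haveI : IsNoetherianRing T := Algebra.FiniteType.isNoetherianRing S T
  -- the projection of `T`
  let ψ : T →+* (S ⧸ I) ⊗[A] B :=
    eT.toRingHom.comp (Algebra.TensorProduct.includeRight : T →ₐ[S] (S ⧸ I) ⊗[S] T).toRingHom
  have hψs : Function.Surjective ψ := by
    have h1 : Function.Surjective (Algebra.TensorProduct.includeRight : T →ₐ[S] (S ⧸ I) ⊗[S] T) :=
      Algebra.TensorProduct.includeRight_surjective T Ideal.Quotient.mk_surjective
    exact eT.surjective.comp h1
  have hψk : (I.map (algebraMap S T)) ≤ RingHom.ker ψ := by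
    rw [Ideal.map_le_iff_le_comap]
    intro a ha
    show eT ((1 : S ⧸ I) ⊗ₜ[S] algebraMap S T a) = 0
    rw [Algebra.algebraMap_eq_smul_one, TensorProduct.tmul_smul, TensorProduct.smul_tmul',
      ← Algebra.algebraMap_eq_smul_one, Ideal.Quotient.algebraMap_eq, Ideal.Quotient.eq_zero_iff_mem.2 ha,
      TensorProduct.zero_tmul, map_zero]
  have hψk' : RingHom.ker ψ ≤ I.map (algebraMap S T) := by
    intro t ht
    have h1 : ((1 : S ⧸ I) ⊗ₜ[S] t) = 0 := eT.injective (by rw [map_zero]; exact ht)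
    have h3 : Ideal.Quotient.mk (I.map (algebraMap S T)) t = 0 :=
      (Algebra.TensorProduct.quotIdealMapEquivQuotTensor T I).injective (by rw [map_zero]; exact h1)
    exact Ideal.Quotient.eq_zero_iff_mem.1 h3
  -- a maximal ideal over `n`
  let ι : B →+* (S ⧸ I) ⊗[A] B := (Algebra.TensorProduct.includeRight : B →ₐ[A] _).toRingHom
  letI : Algebra B ((S ⧸ I) ⊗[A] B) := ι.toAlgebra
  haveI : IsScalarTower A B ((S ⧸ I) ⊗[A] B) := IsScalarTower.of_algebraMap_eq fun a =>
    ((Algebra.TensorProduct.includeRight : B →ₐ[A] (S ⧸ I) ⊗[A] B).commutes a).symm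
  let swap : B ⊗[A] (S ⧸ I) ≃ₗ[B] (S ⧸ I) ⊗[A] B :=
    { (Algebra.TensorProduct.comm A B (S ⧸ I)).toLinearEquiv with
      map_smul' := fun b x => by
        show Algebra.TensorProduct.comm A B (S ⧸ I) (b • x) = ι b * Algebra.TensorProduct.comm A B (S ⧸ I) x
        induction x using TensorProduct.induction_on with
        | zero => simp
        | tmul c y =>
          show y ⊗ₜ[A] (b * c) = ((1 : S ⧸ I) ⊗ₜ[A] b) * (y ⊗ₜ[A] c)
          rw [Algebra.TensorProduct.tmul_mul_tmul, one_mul]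
        | add x y hx hy => simp only [smul_add, map_add, mul_add, hx, hy] }
  haveI : Module.FaithfullyFlat B ((S ⧸ I) ⊗[A] B) := Module.FaithfullyFlat.of_linearEquiv _ _ swap.symm
  obtain ⟨⟨n₁, hn₁⟩, hn₁n⟩ := PrimeSpectrum.comap_surjective_of_faithfullyFlat (A := B)
    (B := (S ⧸ I) ⊗[A] B) ⟨n, inferInstance⟩
  obtain ⟨n', hn'max, hn'⟩ := Ideal.exists_le_maximal n₁ hn₁.ne_top
  have hn'n : n'.comap ι = n := by
    refine (Ideal.IsMaximal.eq_of_le ‹n.IsMaximal› (Ideal.comap_ne_top _ hn'max.ne_top) ?_).symm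
    have h' : n₁.comap ι = n := congrArg PrimeSpectrum.asIdeal hn₁n
    rw [← h']
    exact Ideal.comap_mono hn'
  -- the punctured part below `n'`
  let nT : Ideal T := n'.comap ψ
  haveI : nT.IsMaximal := Ideal.comap_isMaximal_of_surjective ψ hψs
  have hT := isConnected_below hd s hs (fun x hx => hIm (Ideal.subset_span hx)) T nT
  have hB' : _root_.IsConnected (below n') := by
    have hind : Topology.IsInducing (PrimeSpectrum.comap ψ) :=
      (PrimeSpectrum.isClosedEmbedding_comap_of_surjective _ _ hψs).isInducing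
    have himg : PrimeSpectrum.comap ψ '' below n' =
        {x : PrimeSpectrum T | I.map (algebraMap S T) ≤ x.asIdeal ∧ x.asIdeal ≤ nT ∧ x.asIdeal ≠ nT} := by
      ext x
      constructor
      · rintro ⟨y, ⟨hyn, hyne⟩, rfl⟩
        exact ⟨hψk.trans (Ideal.comap_mono bot_le), Ideal.comap_mono hyn,
          fun h => hyne (Ideal.comap_injective_of_surjective ψ hψs h)⟩
      · rintro ⟨hxI, hxn, hne⟩
        obtain ⟨y, rfl⟩ : x ∈ Set.range (PrimeSpectrum.comap ψ) := by
          rw [range_comap_of_surjective _ _ hψs]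
          exact hψk'.trans hxI
        exact ⟨y, ⟨(Ideal.comap_le_comap_iff_of_surjective ψ hψs _ _).1 hxn, fun h => hne (by
          show y.asIdeal.comap ψ = nT; rw [h])⟩, rfl⟩
    refine ⟨(himg ▸ hT.nonempty).of_image, hind.isPreconnected_image.1 (himg ▸ hT.isPreconnected)⟩
  -- descend
  haveI : Algebra.HasGoingDown B ((S ⧸ I) ⊗[A] B) := inferInstance
  haveI : Algebra.IsIntegral (S ⧸ I) ((S ⧸ I) ⊗[A] B) := Algebra.IsIntegral.of_finite _ _
  have hincomp : ∀ y : PrimeSpectrum ((S ⧸ I) ⊗[A] B), y.asIdeal ≤ n' →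
      y.asIdeal.comap ι = n → y.asIdeal = n' := by
    intro y hy hyn
    refine Ideal.IsMaximal.eq_of_le ?_ hn'max.ne_top hy
    refine Ideal.isMaximal_of_isIntegral_of_isMaximal_comap (R := S ⧸ I) _ ?_
    haveI : IsLocalRing (S ⧸ I) := IsLocalRing.of_surjective' _ Ideal.Quotient.mk_surjective
    haveI : Algebra.IsIntegral A B := Algebra.IsIntegral.of_finite A B
    have hA : (y.asIdeal.comap (algebraMap (S ⧸ I) ((S ⧸ I) ⊗[A] B))).comap (algebraMap A (S ⧸ I)) =
        IsLocalRing.maximalIdeal A := by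
      have h1 : (n.comap (algebraMap A B)) = IsLocalRing.maximalIdeal A :=
        IsLocalRing.eq_maximalIdeal (Ideal.isMaximal_comap_of_isIntegral_of_isMaximal n)
      rw [← h1, ← hyn, Ideal.comap_comap, Ideal.comap_comap, ← IsScalarTower.algebraMap_eq]
      congr 1
      exact (AlgHom.comp_algebraMap (Algebra.TensorProduct.includeRight : B →ₐ[A] (S ⧸ I) ⊗[A] B)).symm
    have hm : (IsLocalRing.maximalIdeal A).map (algebraMap A (S ⧸ I)) = IsLocalRing.maximalIdeal (S ⧸ I) := by
      rw [show algebraMap A (S ⧸ I) = eA.toRingEquiv.toRingHom.comp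
          (algebraMap A (AdicCompletion (IsLocalRing.maximalIdeal A) A)) from rfl, ← Ideal.map_map,
        ← AdicCompletion.maximalIdeal_eq_map]
      haveI := Ideal.map_isMaximal_of_equiv eA.toRingEquiv
        (p := IsLocalRing.maximalIdeal (AdicCompletion (IsLocalRing.maximalIdeal A) A))
      exact IsLocalRing.eq_maximalIdeal ‹_›
    have : IsLocalRing.maximalIdeal (S ⧸ I) ≤ y.asIdeal.comap (algebraMap (S ⧸ I) ((S ⧸ I) ⊗[A] B)) := by
      rw [← hm, Ideal.map_le_iff_le_comap, hA]
    exact ((IsLocalRing.maximalIdeal.isMaximal _).eq_of_le (Ideal.comap_ne_top _ y.isPrime.ne_top) this) ▸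
      IsLocalRing.maximalIdeal.isMaximal _
  have himg : PrimeSpectrum.comap ι '' below n' = below n := by
    ext x
    constructor
    · rintro ⟨y, ⟨hy, hyne⟩, rfl⟩
      exact ⟨hn'n ▸ Ideal.comap_mono hy, fun h => hyne (hincomp y hy h)⟩
    · rintro ⟨hxn, hne⟩
      haveI : n'.LiesOver n := ⟨hn'n.symm⟩
      obtain ⟨q, hqn, hqp, hq⟩ := Ideal.exists_ideal_le_liesOver_of_le (S := (S ⧸ I) ⊗[A] B) n' (p := x.asIdeal)
        (q := n) hxn
      exact ⟨⟨q, hqp⟩, ⟨hqn, fun h => hne (by
        rw [hq.over, Ideal.under_def]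
        change q = n' at h
        rw [h]; exact hn'n)⟩, PrimeSpectrum.ext hq.over.symm⟩
  rw [← himg]
  exact hB'.image _ (PrimeSpectrum.continuous_comap _).continuousOn

/-- Clopen subsets over the punctured spectrum extend uniquely. -/
theorem existsUnique_clopen_spec (B : Type u) [CommRing B] [Algebra A B] [Module.Finite A B]
    (hconn : ∀ n : Ideal B, n.IsMaximal → _root_.IsConnected (below n))
    (O O' : Set (PrimeSpectrum B)) (hO : IsOpen O) (hO' : IsOpen O') (hd : Disjoint O O')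
    (hU : O ∪ O' = {x | x.asIdeal.comap (algebraMap A B) ≠ IsLocalRing.maximalIdeal A}) :
    ∃! W : Set (PrimeSpectrum B), IsClopen W ∧ W ∩ (O ∪ O') = O := by
  classical
  haveI : IsNoetherianRing B := Algebra.FiniteType.isNoetherianRing A B
  haveI : Algebra.IsIntegral A B := Algebra.IsIntegral.of_finite A B
  -- points off `U` are maximal with everything below them in `U`
  have hmax : ∀ z : PrimeSpectrum B, z ∉ O ∪ O' → z.asIdeal.IsMaximal := fun z hz => by
    rw [hU] at hz
    haveI : (z.asIdeal.comap (algebraMap A B)).IsMaximal :=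
      not_not.1 hz ▸ IsLocalRing.maximalIdeal.isMaximal A
    exact Ideal.isMaximal_of_isIntegral_of_isMaximal_comap (R := A) _ inferInstance
  have hbelow : ∀ z : PrimeSpectrum B, z.asIdeal.IsMaximal → below z.asIdeal ⊆ O ∪ O' := fun z hz w hw => by
    rw [hU]
    intro hw'
    haveI : (w.asIdeal.comap (algebraMap A B)).IsMaximal := hw' ▸ IsLocalRing.maximalIdeal.isMaximal A
    haveI := Ideal.isMaximal_of_isIntegral_of_isMaximal_comap (R := A) w.asIdeal inferInstance
    exact hw.2 (Ideal.IsMaximal.eq_of_le ‹_› hz.ne_top hw.1)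
  -- closures are specialisation hulls
  have hgen : ∀ (P : Set (PrimeSpectrum B)), IsOpen P → ∀ z ∈ closure P, ∃ c ∈ P, c.asIdeal ≤ z.asIdeal := by
    intro P hP z hz
    let M : Set (PrimeSpectrum B) := {m | m.asIdeal ∈ minimalPrimes B ∧ m ∈ P}
    have hfin : M.Finite := (minimalPrimes.finite_of_isNoetherianRing B).preimage
      (f := PrimeSpectrum.asIdeal) (fun a _ b _ h => PrimeSpectrum.ext h) |>.subset fun m hm => hm.1
    have hsub : P ⊆ ⋃ m ∈ M, closure {m} := fun w hw => by
      obtain ⟨p, hp, hpw⟩ := Ideal.exists_minimalPrimes_le (bot_le : ⊥ ≤ w.asIdeal)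
      let m : PrimeSpectrum B := ⟨p, hp.1.1⟩
      have hmw : m ⤳ w := (PrimeSpectrum.le_iff_specializes m w).1 hpw
      exact Set.mem_biUnion (show m ∈ M from ⟨hp, hmw.mem_open hP hw⟩) hmw.mem_closure
    have hcl : IsClosed (⋃ m ∈ M, closure ({m} : Set (PrimeSpectrum B))) :=
      hfin.isClosed_biUnion fun _ _ => isClosed_closure
    obtain ⟨m, hm, hmz⟩ := Set.mem_iUnion₂.1 (closure_minimal hsub hcl hz)
    exact ⟨m, hm.2, (PrimeSpectrum.le_iff_specializes m z).2 (specializes_iff_mem_closure.2 hmz)⟩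
  have hclU : ∀ z ∈ O ∪ O', ∀ P P' : Set (PrimeSpectrum B), IsOpen P' → Disjoint P P' →
      z ∈ P' → z ∉ closure P := fun z _ P P' hP' hdis hzP' hzc => by
    obtain ⟨w, hw, hwP⟩ := mem_closure_iff.1 hzc P' hP' hzP'
    exact Set.disjoint_left.1 hdis hwP hw
  have hdense : closure (O ∪ O') = Set.univ := by
    refine Set.eq_univ_of_forall fun z => ?_
    by_cases hz : z ∈ O ∪ O'
    · exact subset_closure hz
    · obtain ⟨w, hw⟩ := (hconn z.asIdeal (hmax z hz)).nonempty
      exact ((PrimeSpectrum.le_iff_specializes w z).1 hw.1).mem_closed isClosed_closure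
        (subset_closure (hbelow z (hmax z hz) hw))
  have hdisj : Disjoint (closure O) (closure O') := by
    rw [Set.disjoint_left]
    intro z hz hz'
    by_cases hzU : z ∈ O ∪ O'
    · rcases hzU with h | h
      · exact hclU z (Or.inl h) O' O hO hd.symm h hz'
      · exact hclU z (Or.inr h) O O' hO' hd h hz
    · have hmz := hmax z hzU
      obtain ⟨c, hc, hcz⟩ := hgen O hO z hz
      obtain ⟨c', hc', hcz'⟩ := hgen O' hO' z hz'
      have hcb : c ∈ below z.asIdeal := ⟨hcz, fun h => hzU (Or.inl (PrimeSpectrum.ext h ▸ hc))⟩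
      have hcb' : c' ∈ below z.asIdeal := ⟨hcz', fun h => hzU (Or.inr (PrimeSpectrum.ext h ▸ hc'))⟩
      obtain ⟨w, -, hwO, hwO'⟩ := (hconn z.asIdeal hmz).isPreconnected O O' hO hO' (hbelow z hmz)
        ⟨c, hcb, hc⟩ ⟨c', hcb', hc'⟩
      exact Set.disjoint_left.1 hd hwO hwO'
  have hcompl : (closure O)ᶜ = closure O' := by
    refine Set.Subset.antisymm (fun z hz => ?_) fun z hz h => Set.disjoint_left.1 hdisj h hz
    have : z ∈ closure O ∪ closure O' := by rw [← closure_union, hdense]; trivial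
    exact this.resolve_left hz
  have hclop : IsClopen (closure O) :=
    ⟨isClosed_closure, by rw [← isClosed_compl_iff, hcompl]; exact isClosed_closure⟩
  have hinter : closure O ∩ (O ∪ O') = O := by
    refine Set.Subset.antisymm (fun z ⟨hz, hzU⟩ => hzU.resolve_right fun h => ?_)
      fun z hz => ⟨subset_closure hz, Or.inl hz⟩
    exact hclU z (Or.inr h) O O' hO' hd h hz
  refine ⟨closure O, ⟨hclop, hinter⟩, fun W ⟨hW, hWO⟩ => ?_⟩
  refine Set.Subset.antisymm ?_ (closure_minimal (hWO ▸ Set.inter_subset_left) hW.1)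
  intro z hz
  have h1 : z ∈ closure (W ∩ (O ∪ O')) := by
    rw [mem_closure_iff]
    intro P hP hzP
    obtain ⟨w, ⟨hwP, hwW⟩, hwU⟩ := (dense_iff_closure_eq.2 hdense).inter_open_nonempty (P ∩ W) (hP.inter hW.2)
      ⟨z, hzP, hz⟩
    exact ⟨w, hwP, hwW, hwU⟩
  rwa [hWO] at h1

include hd hs e in
theorem existsUnique_clopen_scheme (Z : Scheme.{u}) (π : Z ⟶ Spec (CommRingCat.of A)) [IsFinite π] [Etale π]
    (C : Set ↥(pullback π (FEt.puncturedSpec A).ι)) (hC : IsClopen C) :
    ∃! W : Set Z, IsClopen W ∧ pullback.fst π (FEt.puncturedSpec A).ι ⁻¹' W = C := by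
  haveI : IsAffine Z := isAffine_of_isAffineHom π
  obtain ⟨φ, hφ⟩ := Spec.map_surjective (Z.isoSpec.inv ≫ π)
  have hπ : π = Z.isoSpec.hom ≫ Spec.map φ := by rw [hφ, Iso.hom_inv_id_assoc]
  letI : Algebra A Γ(Z, ⊤) := φ.hom.toAlgebra
  haveI : Module.Finite A Γ(Z, ⊤) := by
    have : IsFinite (Spec.map φ) := hφ ▸ inferInstance
    exact (IsFinite.SpecMap_iff (f := φ)).1 this
  haveI : Algebra.Etale A Γ(Z, ⊤) := by
    have : Etale (Spec.map φ) := hφ ▸ inferInstance
    exact RingHom.etale_algebraMap.1 ((HasRingHomProperty.Spec_iff (P := @Etale)).1 this)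
  let h : Z ≃ₜ PrimeSpectrum Γ(Z, ⊤) := Scheme.Hom.homeomorph Z.isoSpec.hom
  let U := FEt.puncturedSpec A
  let j := pullback.fst π U.ι
  have hr : Set.range j = π ⁻¹' (U : Set ↥(Spec (CommRingCat.of A))) := by
    rw [Scheme.Pullback.range_fst, Scheme.Opens.range_ι]
  have hemb : Topology.IsOpenEmbedding fun p => h (j p) := h.isOpenEmbedding.comp j.isOpenEmbedding
  have hrange : Set.range (fun p => h (j p)) =
      {x : PrimeSpectrum Γ(Z, ⊤) | x.asIdeal.comap (algebraMap A Γ(Z, ⊤)) ≠ IsLocalRing.maximalIdeal A} := by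
    ext x
    have hx : x ∈ Set.range (fun p => h (j p)) ↔ π (h.symm x) ∈ U := by
      rw [show (fun p => h (j p)) = h ∘ j from rfl, Set.range_comp, hr, Set.mem_image]
      exact ⟨fun ⟨z, hz, he⟩ => by rw [← he, h.symm_apply_apply]; exact hz,
        fun hz => ⟨_, hz, h.apply_symm_apply x⟩⟩
    rw [hx]
    have hπx : π (h.symm x) = PrimeSpectrum.comap φ.hom x := by
      rw [hπ]
      show (Spec.map φ) (h (h.symm x)) = _
      rw [h.apply_symm_apply]
      rfl
    rw [hπx]
    exact ⟨fun hh he => hh (PrimeSpectrum.ext he), fun hh he => hh (congrArg PrimeSpectrum.asIdeal he)⟩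
  let O := (fun p => h (j p)) '' C
  let O' := (fun p => h (j p)) '' Cᶜ
  have hU : O ∪ O' = {x : PrimeSpectrum Γ(Z, ⊤) |
      x.asIdeal.comap (algebraMap A Γ(Z, ⊤)) ≠ IsLocalRing.maximalIdeal A} := by
    rw [← hrange, ← Set.image_union, Set.union_compl_self, Set.image_univ]
  obtain ⟨W, ⟨hW, hWO⟩, huniq⟩ := existsUnique_clopen_spec A Γ(Z, ⊤)
    (fun n hn => haveI := hn; isConnected_below_of_vdim A S d hd s hs e Γ(Z, ⊤) n) O O'
    (hemb.isOpenMap _ hC.2) (hemb.isOpenMap _ hC.compl.2)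
    ((Set.disjoint_image_iff hemb.injective).2 disjoint_compl_right) hU
  have key : ∀ V : Set (PrimeSpectrum Γ(Z, ⊤)), V ∩ (O ∪ O') = O ↔ j ⁻¹' (h ⁻¹' V) = C := by
    intro V
    rw [hU, ← hrange, ← Set.image_preimage_eq_inter_range]
    exact ⟨fun e' => hemb.injective.image_injective e', fun e' => congrArg (Set.image _) e'⟩
  refine ⟨h ⁻¹' W, ⟨hW.preimage h.continuous, (key W).1 hWO⟩, fun W' ⟨hW', hW'C⟩ => ?_⟩
  have h1 := huniq (h.symm ⁻¹' W') ⟨hW'.preimage h.symm.continuous, (key _).2 (by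
    rw [← Set.preimage_comp (f := h), h.symm_comp_self]; exact hW'C)⟩
  rw [← h1, ← Set.preimage_comp, h.symm_comp_self]
  rfl

end Groth.Agent.VdimTwo
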