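import Groth.Agent.VdimTwo.Conn
import Groth.Agent.S14401
import Groth.Agent.EtaleLocalProps.Basic
import Groth.Agent.FiniteExtend.Main
import Groth.Agent.SerreReg.MiracleFinite
import Groth.Prelude.Def_FEt

/-!
# Connectedness of sections of étale covers of punctured spectra of complete normal domains
-/

set_option autoImplicit false
set_option backward.isDefEq.respectTransparency false
set_option linter.style.haveILetI false

universe u

open CategoryTheory CategoryTheory.Limits AlgebraicGeometry TopologicalSpace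

namespace Groth.Agent.VdimTwo

/-- Few equations on a finite domain over a complete local ring cut a connected punctured set. -/
theorem isConnected_of_finite_domain (A : Type u) [CommRing A] [IsNoetherianRing A] [IsLocalRing A]
    [IsAdicComplete (IsLocalRing.maximalIdeal A) A] (R : Type u) [CommRing R] [IsDomain R] [Algebra A R]
    [Module.Finite A R] (hinj : Function.Injective (algebraMap A R)) {k : ℕ}
    (hdim : ((k + 2 : ℕ) : WithBot ℕ∞) ≤ ringKrullDim A) (f : Fin k → A)
    (hf : ∀ i, f i ∈ IsLocalRing.maximalIdeal A) :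
    _root_.IsConnected {x : PrimeSpectrum R | (Ideal.span (Set.range f)).map (algebraMap A R) ≤ x.asIdeal ∧
      x.asIdeal.comap (algebraMap A R) ≠ IsLocalRing.maximalIdeal A} := by
  classical
  haveI : IsNoetherianRing R := Algebra.FiniteType.isNoetherianRing A R
  haveI : Algebra.IsIntegral A R := Algebra.IsIntegral.of_finite A R
  haveI : HenselianLocalRing A :=
    { is_henselian := fun g hg a₀ h1 h2 =>
        HenselianRing.is_henselian (I := IsLocalRing.maximalIdeal A) g hg a₀ h1 (h2.map _) }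
  haveI : IsLocalRing R := Groth.Agent.Hensel.isLocalRing_of_integral_domain A R
  haveI : IsAdicComplete (IsLocalRing.maximalIdeal A) R :=
    Groth.Agent.AdicLim.isAdicComplete_of_finite (IsLocalRing.maximalIdeal A) R
  let J : Ideal R := (IsLocalRing.maximalIdeal A).map (algebraMap A R)
  haveI : IsAdicComplete J R :=
    (IsAdicComplete.map_algebraMap_iff (IsLocalRing.maximalIdeal A) R).2 inferInstance
  have hover : ∀ x : PrimeSpectrum R,
      x.asIdeal.comap (algebraMap A R) = IsLocalRing.maximalIdeal A ↔ x.asIdeal = IsLocalRing.maximalIdeal R := by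
    intro x
    constructor
    · intro h
      haveI : (x.asIdeal.comap (algebraMap A R)).IsMaximal := h ▸ IsLocalRing.maximalIdeal.isMaximal A
      exact IsLocalRing.eq_maximalIdeal (Ideal.isMaximal_of_isIntegral_of_isMaximal_comap (R := A) _ inferInstance)
    · intro h
      haveI : x.asIdeal.IsMaximal := h ▸ IsLocalRing.maximalIdeal.isMaximal R
      exact IsLocalRing.eq_maximalIdeal (Ideal.isMaximal_comap_of_isIntegral_of_isMaximal x.asIdeal)
  have hJm : J ≤ IsLocalRing.maximalIdeal R :=
    Ideal.map_le_iff_le_comap.2 ((hover (IsLocalRing.closedPoint R)).2 rfl).ge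
  obtain ⟨N, hN⟩ : ∃ N, IsLocalRing.maximalIdeal R ^ N ≤ J := by
    refine Ideal.exists_pow_le_of_le_radical_of_fg ?_ (IsNoetherian.noetherian _)
    rw [Ideal.radical_eq_sInf]
    refine le_sInf fun Q ⟨hQ, hQp⟩ => ?_
    exact ((hover ⟨Q, hQp⟩).1 ((IsLocalRing.maximalIdeal.isMaximal A).eq_of_le
      (Ideal.comap_ne_top _ hQp.ne_top) (Ideal.map_le_iff_le_comap.1 hQ)).symm).ge
  haveI : IsAdicComplete (IsLocalRing.maximalIdeal R) R := isAdicComplete_of_pow_le J _ hJm hN
  obtain ⟨d, hd⟩ := SerreReg.exists_dim_nat R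
  have hkd : k + 2 ≤ d := by
    have h1 := (hdim.trans (SerreReg.ringKrullDim_le_of_isIntegral hinj)).trans hd.le
    exact Nat.cast_le.1 h1
  let g : Fin k → R := fun i => algebraMap A R (f i)
  have hI : (Ideal.span (Set.range f)).map (algebraMap A R) = Ideal.span (Set.range g) := by
    rw [Ideal.map_span, ← Set.range_comp]; rfl
  have hne : (Ideal.span (Set.range f)).map (algebraMap A R) ≠ ⊤ :=
    ne_top_of_le_ne_top (Ideal.IsPrime.ne_top inferInstance)
      ((Ideal.map_mono (Ideal.span_le.2 (Set.range_subset_iff.2 hf))).trans hJm)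
  have h := S17758.result R d hd k hkd g _ hne (by rw [hI])
  convert h using 1
  ext x
  exact and_congr_right fun _ => not_congr (hover x)

variable (A : Type u) [CommRing A] [IsDomain A] [IsNoetherianRing A] [IsLocalRing A]
  [IsAdicComplete (IsLocalRing.maximalIdeal A) A]

/-- An irreducible cover of the punctured spectrum meets few equations in a connected set. -/
theorem isConnected_preimage_zeroLocus {Zc : Scheme.{u}} [IsIntegral Zc]
    (π : Zc ⟶ (FEt.puncturedSpec A : Scheme.{u})) [IsFinite π] [Etale π] {k : ℕ}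
    (hdim : ((k + 2 : ℕ) : WithBot ℕ∞) ≤ ringKrullDim A) (f : Fin k → A)
    (hf : ∀ i, f i ∈ IsLocalRing.maximalIdeal A) :
    _root_.IsConnected {z : Zc | Ideal.span (Set.range f) ≤
      ((π ≫ (FEt.puncturedSpec A).ι) z : PrimeSpectrum A).asIdeal} := by
  obtain ⟨B, _, _, i, hB, hpb⟩ := FiniteExtend.exists_finite_extension A (FEt.puncturedSpec A)
    (NoetherianSpace.isCompact _) Zc π
  haveI : IsOpenImmersion i := MorphismProperty.of_isPullback hpb.flip inferInstance
  have hw : ∀ z : Zc, PrimeSpectrum.comap (algebraMap A B) (i z) = (π ≫ (FEt.puncturedSpec A).ι) z := fun z =>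
    congr($(hpb.w).base z)
  have hrange : Set.range i = {x : PrimeSpectrum B | x.asIdeal.comap (algebraMap A B) ≠
      IsLocalRing.maximalIdeal A} := by
    ext x
    constructor
    · rintro ⟨z, rfl⟩ h
      exact (π z).2 (PrimeSpectrum.ext (((congrArg PrimeSpectrum.asIdeal (hw z)).symm.trans h)))
    · intro hx
      obtain ⟨z, hz, -⟩ := Scheme.exists_preimage_of_isPullback hpb x
        ⟨PrimeSpectrum.comap (algebraMap A B) x, fun h => hx (congrArg PrimeSpectrum.asIdeal h)⟩ rfl
      exact ⟨z, hz⟩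
  -- the generic point
  let η : Zc := genericPoint Zc
  set P : PrimeSpectrum B := i η with hP
  have hPle : ∀ z : Zc, P.asIdeal ≤ (i z : PrimeSpectrum B).asIdeal := fun z =>
    (PrimeSpectrum.le_iff_specializes P (i z)).2
      (((genericPoint_spec Zc).specializes trivial).map i.continuous)
  have hPA : P.asIdeal.comap (algebraMap A B) = ⊥ := by
    have hne : IsLocalRing.maximalIdeal A ≠ ⊥ := by
      intro h
      rw [ringKrullDim_eq_zero_of_isField (IsLocalRing.isField_iff_maximalIdeal_eq.2 h)] at hdim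
      exact absurd (Nat.cast_le.1 (hdim : ((k + 2 : ℕ) : WithBot ℕ∞) ≤ ((0 : ℕ) : WithBot ℕ∞))) (by omega)
    let ηA : (FEt.puncturedSpec A : Scheme.{u}) :=
      ⟨(⟨⊥, Ideal.isPrime_bot⟩ : PrimeSpectrum A), fun h => hne (congrArg PrimeSpectrum.asIdeal h).symm⟩
    obtain ⟨z₀⟩ : Nonempty Zc := inferInstance
    have hgen : ∀ y : (FEt.puncturedSpec A : Scheme.{u}), ηA ⤳ y := fun y =>
      (subtype_specializes_iff ηA y).2 ((PrimeSpectrum.le_iff_specializes _ _).1 bot_le)
    obtain ⟨z, hz⟩ : ηA ∈ Set.range π :=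
      (hgen (π z₀)).mem_open π.isOpenMap.isOpen_range ⟨z₀, rfl⟩
    have h1 : π η ⤳ ηA := hz ▸ ((genericPoint_spec Zc).specializes trivial).map π.continuous
    have h2 : π η = ηA := (h1.antisymm (hgen (π η))).eq
    have h3 : PrimeSpectrum.comap (algebraMap A B) P = ⟨⊥, Ideal.isPrime_bot⟩ := by
      rw [hP, hw η]
      show (FEt.puncturedSpec A).ι (π η) = _
      rw [h2]
      rfl
    exact congrArg PrimeSpectrum.asIdeal h3
  haveI := P.isPrime
  let R := B ⧸ P.asIdeal
  haveI : Module.Finite A R := Module.Finite.of_surjective (Ideal.Quotient.mkₐ A P.asIdeal).toLinearMap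
    Ideal.Quotient.mk_surjective
  have hinj : Function.Injective (algebraMap A R) := by
    rw [RingHom.injective_iff_ker_eq_bot, IsScalarTower.algebraMap_eq A B R, ← RingHom.comap_ker,
      Ideal.Quotient.algebraMap_eq, Ideal.mk_ker, hPA]
  have hconn := isConnected_of_finite_domain A R hinj hdim f hf
  have himg : PrimeSpectrum.comap (Ideal.Quotient.mk P.asIdeal) ''
      {x : PrimeSpectrum R | (Ideal.span (Set.range f)).map (algebraMap A R) ≤ x.asIdeal ∧
        x.asIdeal.comap (algebraMap A R) ≠ IsLocalRing.maximalIdeal A} =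
      i '' {z : Zc | Ideal.span (Set.range f) ≤
        ((π ≫ (FEt.puncturedSpec A).ι) z : PrimeSpectrum A).asIdeal} := by
    ext x
    constructor
    · rintro ⟨y, ⟨hy1, hy2⟩, rfl⟩
      obtain ⟨z, hz⟩ := hrange.ge (show PrimeSpectrum.comap (Ideal.Quotient.mk P.asIdeal) y ∈ _ from fun h => hy2 h)
      refine ⟨z, ?_, hz⟩
      show Ideal.span (Set.range f) ≤ ((π ≫ (FEt.puncturedSpec A).ι) z : PrimeSpectrum A).asIdeal
      rw [← hw z, hz]
      exact fun a ha => hy1 (Ideal.mem_map_of_mem (algebraMap A R) ha)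
    · rintro ⟨z, hz, rfl⟩
      change Ideal.span (Set.range f) ≤ ((π ≫ (FEt.puncturedSpec A).ι) z : PrimeSpectrum A).asIdeal at hz
      rw [← hw z] at hz
      obtain ⟨y, hy⟩ : i z ∈ Set.range (PrimeSpectrum.comap (Ideal.Quotient.mk P.asIdeal)) := by
        rw [range_comap_of_surjective _ _ Ideal.Quotient.mk_surjective, Ideal.mk_ker]
        exact hPle z
      refine ⟨y, ⟨Ideal.map_le_iff_le_comap.2 ?_, ?_⟩, hy⟩
      · rw [← hy] at hz; exact hz
      · have h := hrange.le ⟨z, rfl⟩
        rw [← hy] at h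
        exact h
  have h2 := hconn.image _ (PrimeSpectrum.continuous_comap (Ideal.Quotient.mk P.asIdeal)).continuousOn
  rw [himg] at h2
  exact ⟨h2.nonempty.of_image, i.isOpenEmbedding.isInducing.isPreconnected_image.1 h2.isPreconnected⟩

/-- Clopen subsets of the locus of few equations extend uniquely to étale covers. -/
theorem existsUnique_clopen_normal [IsIntegrallyClosed A] (Z : Scheme.{u})
    (π : Z ⟶ (FEt.puncturedSpec A : Scheme.{u})) [IsFinite π] [Etale π] {k : ℕ}
    (hdim : ((k + 2 : ℕ) : WithBot ℕ∞) ≤ ringKrullDim A) (f : Fin k → A)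
    (hf : ∀ i, f i ∈ IsLocalRing.maximalIdeal A) {T : Scheme.{u}} (j : T ⟶ Z) (hj : Topology.IsEmbedding j)
    (hr : Set.range j = {z : Z | Ideal.span (Set.range f) ≤
      ((π ≫ (FEt.puncturedSpec A).ι) z : PrimeSpectrum A).asIdeal})
    (C : Set T) (hC : IsClopen C) : ∃! W : Set Z, IsClopen W ∧ j ⁻¹' W = C := by
  classical
  haveI : IsNoetherianRing (CommRingCat.of A) := ‹IsNoetherianRing A›
  haveI : IsLocallyNoetherian Z := LocallyOfFiniteType.isLocallyNoetherian (π ≫ (FEt.puncturedSpec A).ι)
  haveI : CompactSpace (FEt.puncturedSpec A : Scheme.{u}) :=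
    isCompact_iff_compactSpace.1 (NoetherianSpace.isCompact _)
  haveI : CompactSpace Z := QuasiCompact.compactSpace_of_compactSpace π
  haveI : AlgebraicGeometry.IsNoetherian Z := ⟨⟩
  have hnA : ∀ y : (FEt.puncturedSpec A : Scheme.{u}), IsDomain ((FEt.puncturedSpec A : Scheme.{u}).presheaf.stalk y) ∧
      IsIntegrallyClosed ((FEt.puncturedSpec A : Scheme.{u}).presheaf.stalk y) := fun y => by
    let e := (asIso ((FEt.puncturedSpec A).ι.stalkMap y)).commRingCatIsoToRingEquiv
    let y' : PrimeSpectrum A := (FEt.puncturedSpec A).ι y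
    letI : Algebra A ((Spec (CommRingCat.of A)).presheaf.stalk y') := StructureSheaf.stalkAlgebra A y'
    haveI hloc : IsLocalization.AtPrime ((Spec (CommRingCat.of A)).presheaf.stalk y') y'.asIdeal :=
      StructureSheaf.IsLocalization.to_stalk A y'
    haveI : IsDomain ((Spec (CommRingCat.of A)).presheaf.stalk y') :=
      IsLocalization.isDomain_of_le_nonZeroDivisors _ (Ideal.primeCompl_le_nonZeroDivisors y'.asIdeal)
    haveI : IsIntegrallyClosed ((Spec (CommRingCat.of A)).presheaf.stalk y') :=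
      isIntegrallyClosed_of_isLocalization ((Spec (CommRingCat.of A)).presheaf.stalk y') y'.asIdeal.primeCompl
        (Ideal.primeCompl_le_nonZeroDivisors _)
    haveI : IsDomain ((FEt.puncturedSpec A : Scheme.{u}).presheaf.stalk y) := e.symm.injective.isDomain
    exact ⟨inferInstance, IsIntegrallyClosed.of_equiv e⟩
  have hdom : ∀ z : Z, IsDomain (Z.presheaf.stalk z) := fun z =>
    ((EtaleLocalProps.isNormal_stalk_iff (f := π) (x := z)).2 (hnA (π z))).1
  obtain ⟨hopen, huniq⟩ := S14401.result Z hdom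
  have hfin : (irreducibleComponents (Z : Type u)).Finite := NoetherianSpace.finite_irreducibleComponents
  -- each component meets the locus in a connected set
  have hconn : ∀ K ∈ irreducibleComponents (Z : Type u), _root_.IsConnected (K ∩ Set.range j) := by
    intro K hK
    let O : Z.Opens := ⟨K, hopen K hK⟩
    haveI : IsClosedImmersion O.ι :=
      IsClosedImmersion.of_isPreimmersion O.ι (by
        rw [Scheme.Opens.range_ι]; exact isClosed_of_mem_irreducibleComponents K hK)
    haveI : IrreducibleSpace O.toScheme := Subtype.irreducibleSpace hK.1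
    haveI : ∀ z : O.toScheme, _root_.IsReduced (O.toScheme.presheaf.stalk z) := fun z => by
      haveI := hdom (O.ι z)
      exact isReduced_of_injective (asIso (O.ι.stalkMap z)).commRingCatIsoToRingEquiv.symm.toRingHom
        (asIso (O.ι.stalkMap z)).commRingCatIsoToRingEquiv.symm.injective
    haveI : AlgebraicGeometry.IsReduced O.toScheme := isReduced_of_isReduced_stalk _
    haveI : IsIntegral O.toScheme := isIntegral_of_irreducibleSpace_of_isReduced _
    haveI : IsFinite (O.ι ≫ π) := inferInstance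
    haveI : Etale (O.ι ≫ π) := inferInstance
    have h := (isConnected_preimage_zeroLocus A (O.ι ≫ π) hdim f hf).image O.ι O.ι.continuous.continuousOn
    convert h using 1
    ext z
    rw [hr]
    constructor
    · rintro ⟨hzK, hz⟩
      exact ⟨⟨z, hzK⟩, hz, rfl⟩
    · rintro ⟨⟨w, hw⟩, hwf, rfl⟩
      exact ⟨hw, hwf⟩
  -- images of the clopen
  have hsplit : ∀ K ∈ irreducibleComponents (Z : Type u), j ⁻¹' K ⊆ C ∨ j ⁻¹' K ⊆ Cᶜ := by
    intro K hK
    have h1 : _root_.IsPreconnected (j ⁻¹' K) := by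
      refine hj.isInducing.isPreconnected_image.1 ?_
      rw [Set.image_preimage_eq_inter_range]
      exact (hconn K hK).isPreconnected
    exact h1.subset_or_subset hC.2 hC.compl.2 disjoint_compl_right (by simp)
  have hne : ∀ K ∈ irreducibleComponents (Z : Type u), (j ⁻¹' K).Nonempty := by
    intro K hK
    obtain ⟨z, hzK, t, rfl⟩ := (hconn K hK).nonempty
    exact ⟨t, hzK⟩
  let 𝒦 := {K ∈ irreducibleComponents (Z : Type u) | j ⁻¹' K ⊆ C}
  let W : Set Z := ⋃₀ 𝒦
  have hWc : IsClopen W := by
    refine ⟨?_, isOpen_sUnion fun K hK => hopen K hK.1⟩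
    rw [show W = ⋃ K ∈ 𝒦, K from Set.sUnion_eq_biUnion]
    exact (hfin.subset fun K hK => hK.1).isClosed_biUnion
      fun K hK => isClosed_of_mem_irreducibleComponents K hK.1
  have hWC : j ⁻¹' W = C := by
    ext t
    obtain ⟨K, ⟨hK, htK⟩, hKu⟩ := huniq (j t)
    constructor
    · rintro ⟨K', ⟨-, hK'C⟩, htK'⟩
      exact hK'C htK'
    · intro htC
      rcases hsplit K hK with h | h
      · exact ⟨K, ⟨hK, h⟩, htK⟩
      · exact absurd htC (h htK)
  refine ⟨W, ⟨hWc, hWC⟩, fun W' ⟨hW', hW'C⟩ => ?_⟩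
  ext z
  obtain ⟨K, ⟨hK, hzK⟩, hKu⟩ := huniq z
  have hKW' : K ⊆ W' ∨ K ⊆ W'ᶜ :=
    hK.1.isPreirreducible.isPreconnected.subset_or_subset hW'.2 hW'.compl.2 disjoint_compl_right (by simp)
  obtain ⟨t, ht⟩ := hne K hK
  constructor
  · intro hzW'
    rcases hKW' with h | h
    · rcases hsplit K hK with h' | h'
      · exact ⟨K, ⟨hK, h'⟩, hzK⟩
      · exact absurd (hW'C ▸ (h ht : t ∈ j ⁻¹' W')) (h' ht)
    · exact absurd hzW' (h hzK)
  · rintro ⟨K', ⟨hK', hK'C⟩, hzK'⟩
    obtain rfl : K' = K := hKu K' ⟨hK', hzK'⟩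
    rcases hKW' with h | h
    · exact h hzK
    · have h1 : t ∈ j ⁻¹' W' := hW'C.symm ▸ hK'C ht
      exact absurd h1 (h ht)

end Groth.Agent.VdimTwo
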