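import Groth.Agent.S17758
import Groth.Agent.S0532
import Groth.Agent.S9246
import Groth.Agent.S0558
import Groth.Agent.AdicLim.Noetherian
import Groth.Agent.Hensel.Branches
import Mathlib.RingTheory.Ideal.KrullsHeightTheorem
import Mathlib.RingTheory.Henselian
import Mathlib.RingTheory.Flat.FaithfullyFlat.Algebra

/-!
# Connectedness of local punctured spectra of finite étale algebras in virtual dimension two
-/

set_option autoImplicit false
set_option backward.isDefEq.respectTransparency false
set_option linter.style.haveILetI false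

universe u v

open TensorProduct

namespace Groth.Agent.VdimTwo

/-- Completeness passes to a cofinal ideal. -/
theorem isAdicComplete_of_pow_le {R : Type*} [CommRing R] (J M : Ideal R) (hJM : J ≤ M) {N : ℕ}
    (hMN : M ^ N ≤ J) [IsAdicComplete J R] : IsAdicComplete M R := by
  have hpow : ∀ k, M ^ (N * k) ≤ J ^ k := fun k => by rw [pow_mul]; exact Ideal.pow_right_mono hMN k
  have htop : ∀ (P : Ideal R) (k : ℕ), (P ^ k • ⊤ : Submodule R R) = P ^ k := fun P k => Ideal.mul_top _
  haveI : IsHausdorff M R := ⟨fun x hx => by
    refine IsHausdorff.haus (I := J) inferInstance x fun k => ?_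
    have h := hx (N * k)
    rw [SModEq.zero, htop] at h ⊢
    exact hpow k h⟩
  haveI : IsPrecomplete M R := ⟨fun f hf => by
    have hf' : ∀ {m n}, m ≤ n → f m - f n ∈ M ^ m := fun {m n} hmn => by
      have := hf hmn
      rwa [SModEq.sub_mem, htop] at this
    obtain ⟨L, hL⟩ := IsPrecomplete.prec (I := J) inferInstance (f := fun k => f (N * k)) fun {m n} hmn => by
      rw [SModEq.sub_mem, htop]
      exact hpow m (hf' (Nat.mul_le_mul_left N hmn))
    refine ⟨L, fun n => ?_⟩
    have h1 := hL n
    rw [SModEq.sub_mem, htop] at h1 ⊢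
    have h2 : f n - f (N * n) ∈ M ^ n := by
      rcases le_total n (N * n) with h | h
      · exact hf' h
      · rcases Nat.eq_zero_or_pos N with hN | hN
        · subst hN
          have htopJ : J = ⊤ := by rw [eq_top_iff]; simpa using hMN
          have : M = ⊤ := top_le_iff.1 (htopJ.symm.le.trans hJM)
          rw [this, Ideal.top_pow]; trivial
        · have : N * n = n := le_antisymm h (Nat.le_mul_of_pos_left n hN)
          rw [this, sub_self]
          exact zero_mem _
    have h3 := add_mem h2 (Ideal.pow_right_mono hJM n h1)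
    simpa using h3⟩
  exact ⟨⟩

/-- The primes strictly below a maximal ideal. -/
def below {R : Type*} [CommRing R] (n : Ideal R) : Set (PrimeSpectrum R) :=
  {x | x.asIdeal ≤ n ∧ x.asIdeal ≠ n}

theorem exists_eq_of_dim {R : Type u} [CommRing R] [IsNoetherianRing R] [IsLocalRing R] {d : ℕ}
    (hd : ringKrullDim R = d) : (IsLocalRing.maximalIdeal R).height = (d : ℕ∞) := by
  have h := IsLocalRing.maximalIdeal_height_eq_ringKrullDim (R := R)
  rw [hd] at h
  exact WithBot.coe_injective h

variable {S : Type u} [CommRing S] [IsRegularLocalRing S] [IsAdicComplete (IsLocalRing.maximalIdeal S) S]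

/-- Below each maximal ideal of a finite étale algebra over a complete regular local ring, the
vanishing locus of few elements has connected punctured part. -/
theorem isConnected_below {d : ℕ} (hd : ringKrullDim S = d) (s : Finset S) (hs : s.card + 2 ≤ d)
    (hsm : ∀ x ∈ s, x ∈ IsLocalRing.maximalIdeal S)
    (T : Type u) [CommRing T] [Algebra S T] [Module.Finite S T] [Algebra.Etale S T]
    (n : Ideal T) [n.IsMaximal] :
    IsConnected {x : PrimeSpectrum T | (Ideal.span (s : Set S)).map (algebraMap S T) ≤ x.asIdeal ∧
      x.asIdeal ≤ n ∧ x.asIdeal ≠ n} := by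
  classical
  haveI : IsNoetherianRing T := Algebra.FiniteType.isNoetherianRing S T
  have hnS : n.comap (algebraMap S T) = IsLocalRing.maximalIdeal S :=
    IsLocalRing.eq_maximalIdeal (Ideal.isMaximal_comap_of_isIntegral_of_isMaximal n)
  have hreg : IsRegularLocalRing (Localization.AtPrime n) := by
    refine (S9246.result S T n).1 ?_
    have key : ∀ (p : Ideal S) [p.IsPrime], p = IsLocalRing.maximalIdeal S →
        IsRegularLocalRing (Localization.AtPrime p) := fun p _ hp => by
      subst hp
      exact IsRegularLocalRing.of_ringEquiv (R := S)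
        (IsLocalization.atUnits S (IsLocalRing.maximalIdeal S).primeCompl
          (fun x hx => IsLocalRing.notMem_maximalIdeal.1 hx)).toRingEquiv
    exact key _ hnS
  haveI := hreg
  haveI : IsDomain (Localization.AtPrime n) := S0558.result (Localization.AtPrime n)
  set P : Ideal T := RingHom.ker (algebraMap T (Localization.AtPrime n)) with hP
  haveI hPp : P.IsPrime := RingHom.ker_isPrime _
  have hPle : ∀ x : PrimeSpectrum T, x.asIdeal ≤ n → P ≤ x.asIdeal := fun x hx a ha => by
    obtain ⟨⟨t, ht⟩, hta⟩ := (IsLocalization.map_eq_zero_iff n.primeCompl (Localization.AtPrime n) a).1 ha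
    have hmem : t * a ∈ x.asIdeal := by
      rw [show t * a = 0 from hta]; exact zero_mem _
    exact (x.isPrime.mem_or_mem hmem).resolve_left fun h => ht (hx h)
  have hPn : P ≤ n := hPle ⟨n, inferInstance⟩ le_rfl
  -- the domain `T / P`
  let R := T ⧸ P
  haveI : Module.Finite S R := Module.Finite.of_surjective (Ideal.Quotient.mkₐ S P).toLinearMap
    Ideal.Quotient.mk_surjective
  haveI : IsAdicComplete (IsLocalRing.maximalIdeal S) R :=
    Groth.Agent.AdicLim.isAdicComplete_of_finite (IsLocalRing.maximalIdeal S) R
  let J : Ideal R := (IsLocalRing.maximalIdeal S).map (algebraMap S R)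
  haveI hJc : IsAdicComplete J R := (IsAdicComplete.map_algebraMap_iff (IsLocalRing.maximalIdeal S) R).2 inferInstance
  haveI : HenselianRing R J := inferInstance
  -- `R` is local
  set nR : Ideal R := n.map (Ideal.Quotient.mk P) with hnR
  haveI hnRmax : nR.IsMaximal :=
    (Ideal.map_eq_top_or_isMaximal_of_surjective _ Ideal.Quotient.mk_surjective ‹n.IsMaximal›).resolve_left
      fun h => by
        have := congrArg (Ideal.comap (Ideal.Quotient.mk P)) h
        rw [Ideal.comap_map_of_surjective _ Ideal.Quotient.mk_surjective, ← RingHom.ker_eq_comap_bot,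
          Ideal.mk_ker, sup_eq_left.2 hPn, Ideal.comap_top] at this
        exact Ideal.IsMaximal.ne_top ‹_› this
  haveI : HenselianLocalRing S :=
    { is_henselian := fun f hf a₀ h1 h2 =>
        HenselianRing.is_henselian (I := IsLocalRing.maximalIdeal S) f hf a₀ h1 (h2.map _) }
  haveI : Algebra.IsIntegral S R := Algebra.IsIntegral.of_finite S R
  haveI : IsLocalRing R := Groth.Agent.Hensel.isLocalRing_of_integral_domain S R
  have hmax : IsLocalRing.maximalIdeal R = nR := (IsLocalRing.eq_maximalIdeal hnRmax).symm
  have hJn : J ≤ IsLocalRing.maximalIdeal R := by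
    rw [hmax]
    refine Ideal.map_le_iff_le_comap.2 fun a ha => ?_
    rw [Ideal.mem_comap, IsScalarTower.algebraMap_apply S T R]
    exact Ideal.mem_map_of_mem _ (hnS.ge ha)
  obtain ⟨N, hN⟩ : ∃ N, IsLocalRing.maximalIdeal R ^ N ≤ J := by
    refine Ideal.exists_pow_le_of_le_radical_of_fg ?_ (IsNoetherian.noetherian _)
    rw [Ideal.radical_eq_sInf]
    refine le_sInf fun Q ⟨hQ, hQp⟩ => ?_
    haveI := hQp
    have h1 : Q.comap (algebraMap S R) = IsLocalRing.maximalIdeal S :=
      ((IsLocalRing.maximalIdeal.isMaximal S).eq_of_le (Ideal.comap_ne_top _ hQp.ne_top)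
        (Ideal.map_le_iff_le_comap.1 hQ)).symm
    haveI : (Q.comap (algebraMap S R)).IsMaximal := h1 ▸ IsLocalRing.maximalIdeal.isMaximal S
    haveI : Q.IsMaximal := Ideal.isMaximal_of_isIntegral_of_isMaximal_comap (R := S) Q inferInstance
    exact (IsLocalRing.eq_maximalIdeal ‹Q.IsMaximal›).ge
  haveI : IsAdicComplete (IsLocalRing.maximalIdeal R) R := isAdicComplete_of_pow_le J _ hJn hN
  -- the dimension
  have hdim : ringKrullDim R = d := by
    refine le_antisymm ?_ ?_
    · rw [← hd]
      refine Order.krullDim_le_of_strictMono (PrimeSpectrum.comap (algebraMap S R)) fun a b hab => ?_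
      obtain ⟨x, hx, hxa⟩ := SetLike.exists_of_lt (show a.asIdeal < b.asIdeal from hab)
      exact Ideal.comap_lt_comap_of_integral_mem_sdiff hab.le ⟨hx, hxa⟩ (Algebra.IsIntegral.isIntegral x)
    · have hht : ((n.comap (algebraMap S T)).height : WithBot ℕ∞) ≤ ringKrullDim R := by
        haveI : n.LiesOver (n.comap (algebraMap S T)) := ⟨rfl⟩
        have h1 : (n.comap (algebraMap S T)).height ≤ n.height := by
          rw [Ideal.height_eq_height_add_of_liesOver_of_hasGoingDown (n.comap (algebraMap S T)) n]
          exact le_self_add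
        refine le_trans (WithBot.coe_le_coe.2 h1) ?_
        rw [← IsLocalization.AtPrime.ringKrullDim_eq_height n (Localization.AtPrime n)]
        let χ : R →+* Localization.AtPrime n :=
          Ideal.Quotient.lift P (algebraMap T (Localization.AtPrime n)) (fun a ha => ha)
        have hinj : Function.Injective (PrimeSpectrum.comap χ) := by
          intro a b hab
          refine PrimeSpectrum.localization_comap_injective (Localization.AtPrime n) n.primeCompl ?_
          have := congrArg (PrimeSpectrum.comap (Ideal.Quotient.mk P)) hab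
          exact this
        have hmono : Monotone (PrimeSpectrum.comap χ) := fun a b hab => Ideal.comap_mono hab
        exact Order.krullDim_le_of_strictMono _ (hmono.strictMono_of_injective hinj)
      rw [hnS, exists_eq_of_dim hd] at hht
      exact hht
  -- transport
  let I : Ideal R := (Ideal.span (s : Set S)).map (algebraMap S R)
  have hIeq : I = Ideal.span (Set.range fun x : s => algebraMap S R x.1) := by
    show Ideal.map _ _ = _
    rw [Ideal.map_span]
    congr 1
    ext x
    simp
  have hIle : I ≤ IsLocalRing.maximalIdeal R := le_trans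
    (Ideal.map_mono (Ideal.span_le.2 hsm)) hJn
  let f : Fin s.card → R := fun i => algebraMap S R (s.equivFin.symm i).1
  have hf : Set.range f = Set.range fun x : s => algebraMap S R x.1 :=
    s.equivFin.symm.surjective.range_comp (fun x : s => algebraMap S R x.1)
  have hconn := S17758.result R d hdim s.card hs f I
    (fun h => Ideal.IsPrime.ne_top inferInstance (top_le_iff.1 (h ▸ hIle)))
    (by rw [hf, hIeq])
  have himg : PrimeSpectrum.comap (Ideal.Quotient.mk P) ''
      {x : PrimeSpectrum R | I ≤ x.asIdeal ∧ x.asIdeal ≠ IsLocalRing.maximalIdeal R} =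
      {x : PrimeSpectrum T | (Ideal.span (s : Set S)).map (algebraMap S T) ≤ x.asIdeal ∧
        x.asIdeal ≤ n ∧ x.asIdeal ≠ n} := by
    have hI : I = ((Ideal.span (s : Set S)).map (algebraMap S T)).map (Ideal.Quotient.mk P) := by
      rw [Ideal.map_map]; rfl
    ext x
    constructor
    · rintro ⟨y, ⟨hyI, hym⟩, rfl⟩
      refine ⟨fun a ha => hyI (hI ▸ Ideal.mem_map_of_mem _ ha), fun a ha => ?_, fun h => hym ?_⟩
      · have h1 : Ideal.Quotient.mk P a ∈ nR := hmax ▸ IsLocalRing.le_maximalIdeal y.isPrime.ne_top ha
        obtain ⟨b, hb, hba⟩ := (Ideal.mem_map_iff_of_surjective _ Ideal.Quotient.mk_surjective).1 h1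
        have h2 := Ideal.Quotient.eq.1 hba
        have := sub_mem hb (hPn h2)
        simpa using this
      · rw [hmax, hnR, ← h]
        exact (Ideal.map_comap_of_surjective _ Ideal.Quotient.mk_surjective y.asIdeal).symm
    · rintro ⟨hxI, hxn, hne⟩
      have hker : RingHom.ker (Ideal.Quotient.mk P) ≤ x.asIdeal := by rw [Ideal.mk_ker]; exact hPle x hxn
      haveI := Ideal.map_isPrime_of_surjective (f := Ideal.Quotient.mk P) Ideal.Quotient.mk_surjective hker
      have hcm : (x.asIdeal.map (Ideal.Quotient.mk P)).comap (Ideal.Quotient.mk P) = x.asIdeal := by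
        rw [Ideal.comap_map_of_surjective _ Ideal.Quotient.mk_surjective, ← RingHom.ker_eq_comap_bot]
        exact sup_eq_left.2 hker
      refine ⟨⟨x.asIdeal.map (Ideal.Quotient.mk P), inferInstance⟩, ⟨hI.le.trans (Ideal.map_mono hxI),
        fun h => hne ?_⟩, PrimeSpectrum.ext hcm⟩
      change x.asIdeal.map (Ideal.Quotient.mk P) = _ at h
      rw [← hcm, h, hmax, hnR, Ideal.comap_map_of_surjective _ Ideal.Quotient.mk_surjective,
        ← RingHom.ker_eq_comap_bot, Ideal.mk_ker]
      exact sup_eq_left.2 hPn
  rw [← himg]
  exact hconn.image _ (PrimeSpectrum.continuous_comap _).continuousOn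

end Groth.Agent.VdimTwo
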